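import Groth.Agent.AffineCover.Dim
import Groth.Agent.CohDual.DimVanish

/-!
# Hypersurfaces through a closed set
-/

universe u

open CategoryTheory AlgebraicGeometry TopologicalSpace

set_option autoImplicit false
set_option backward.isDefEq.respectTransparency false
set_option maxHeartbeats 1600000

namespace Groth.Agent.AffineCover

section Avoid

variable {A : Type*} [CommRing A] {σ : Type*} [SetLike σ A] [AddSubgroupClass σ A] (𝒜 : ℕ → σ) [GradedRing 𝒜]

/-- Homogeneous prime avoidance inside an ideal. -/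
theorem exists_homogeneous_avoid_mem (J : Ideal A) (S : Finset (Ideal A))
    (hS : ∀ p ∈ S, p.IsPrime ∧ p.IsHomogeneous 𝒜 ∧ ∃ d y, 0 < d ∧ y ∈ 𝒜 d ∧ y ∈ J ∧ y ∉ p) :
    ∃ (e : ℕ) (f : A), 0 < e ∧ f ∈ 𝒜 e ∧ f ∈ J ∧ ∀ p ∈ S, f ∉ p := by
  classical
  induction S using Finset.strongInduction with
  | H S ih =>
    rcases S.eq_empty_or_nonempty with rfl | hne
    · exact ⟨1, 0, one_pos, zero_mem _, J.zero_mem, by simp⟩
    obtain ⟨p, hp, hmin⟩ := S.exists_minimal hne
    obtain ⟨hpp, -, d, y, hd, hyd, hyJ, hyp⟩ := hS p hp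
    obtain ⟨e, f, he, hfe, hfJ, hf⟩ := ih (S.erase p) (Finset.erase_ssubset hp)
      fun q hq => hS q (Finset.mem_of_mem_erase hq)
    by_cases hfp : f ∈ p
    swap
    · refine ⟨e, f, he, hfe, hfJ, fun q hq => ?_⟩
      rcases eq_or_ne q p with rfl | hqp
      · exact hfp
      · exact hf q (Finset.mem_erase.2 ⟨hqp, hq⟩)
    have key : ∀ T ⊆ S.erase p, ∃ (m : ℕ) (g : A), g ∈ 𝒜 m ∧ g ∉ p ∧ ∀ q ∈ T, g ∈ q := by
      intro T hT
      induction T using Finset.induction with
      | empty => exact ⟨0, 1, SetLike.one_mem_graded 𝒜, fun h1 => hpp.ne_top ((Ideal.eq_top_iff_one _).2 h1), by simp⟩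
      | insert q T _ iht =>
        obtain ⟨m, g, hgm, hgp, hg⟩ := iht ((Finset.subset_insert q T).trans hT)
        obtain ⟨hqp, hqS⟩ := Finset.mem_erase.1 (hT (Finset.mem_insert_self q T))
        obtain ⟨i, x, hx, hxq, hxp⟩ : ∃ (i : ℕ) (x : A), x ∈ 𝒜 i ∧ x ∈ q ∧ x ∉ p := by
          by_contra hcon
          push Not at hcon
          refine hqp (le_antisymm ?_ (hmin hqS ?_))
          all_goals
            intro x hx
            rw [← DirectSum.sum_support_decompose 𝒜 x]
            exact p.sum_mem fun i _ => hcon i _ (SetLike.coe_mem _) ((hS q hqS).2.1 i hx)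
        refine ⟨m + i, g * x, SetLike.GradedMul.mul_mem hgm hx,
          fun hgx => (hpp.mem_or_mem hgx).elim hgp hxp, fun q' hq' => ?_⟩
        rcases Finset.mem_insert.1 hq' with rfl | hq'
        · exact q'.mul_mem_left _ hxq
        · exact q'.mul_mem_right _ (hg q' hq')
    obtain ⟨m, g, hgm, hgp, hg⟩ := key _ subset_rfl
    have hG : g * y ∈ 𝒜 (m + d) := SetLike.GradedMul.mul_mem hgm hyd
    refine ⟨(m + d) * e, f ^ (m + d) + (g * y) ^ e, Nat.mul_pos (by omega) he,
      add_mem ?_ ?_, J.add_mem (J.pow_mem_of_mem hfJ _ (by omega)) (J.pow_mem_of_mem (J.mul_mem_left g hyJ) _ he),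
      fun q hq hmem => ?_⟩
    · simpa only [smul_eq_mul] using SetLike.pow_mem_graded (m + d) hfe
    · simpa only [smul_eq_mul, mul_comm e] using SetLike.pow_mem_graded e hG
    · obtain ⟨hqp', -, -⟩ := hS q hq
      rcases eq_or_ne q p with rfl | hqp
      · have := (Ideal.add_mem_iff_right q (q.pow_mem_of_mem hfp _ (by omega))).1 hmem
        rcases hpp.mem_or_mem (hpp.mem_of_pow_mem _ this) with h' | h'
        · exact hgp h'
        · exact hyp h'
      · have hq' := Finset.mem_erase.2 ⟨hqp, hq⟩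
        have := (Ideal.add_mem_iff_left q
          (q.pow_mem_of_mem (q.mul_mem_right _ (hg q hq')) _ he)).1 hmem
        exact hf q hq' (hqp'.mem_of_pow_mem _ this)

end Avoid

variable {n : ℕ} {k : Type u} [CommRing k]

local notation "P" => Proj (CohB1.polyGrading n k)

/-- `d` hypersurfaces through `Y` separate `S ∖ Y` when point closures in it have dimension `< d`. -/
theorem exists_hypersurfaces [NoetherianSpace P] {Y : Set P} (hY : IsClosed Y) :
    ∀ (d : ℕ) (S : Set P), IsClosed S →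
      (∀ x ∈ S, x ∉ Y → topologicalKrullDim (closure ({x} : Set P)) < (d : WithBot ℕ∞)) →
      ∃ (e : Fin d → ℕ) (h : Fin d → MvPolynomial (Fin (n + 1)) k),
        (∀ i, 0 < e i ∧ (h i).IsHomogeneous (e i)) ∧
        (∀ i, Y ⊆ ((Proj.basicOpen (CohB1.polyGrading n k) (h i) : (P).Opens) : Set P)ᶜ) ∧
        S \ Y ⊆ ⋃ i, ((Proj.basicOpen (CohB1.polyGrading n k) (h i) : (P).Opens) : Set P) := by
  intro d
  induction d with
  | zero =>
    intro S _ hd
    refine ⟨fun i => i.elim0, fun i => i.elim0, fun i => i.elim0, fun i => i.elim0, ?_⟩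
    rintro x ⟨hxS, hxW⟩
    have h := hd x hxS hxW
    haveI : Nonempty (closure ({x} : Set P)) := ⟨⟨x, subset_closure rfl⟩⟩
    haveI : Nonempty (IrreducibleCloseds (closure ({x} : Set P))) :=
      ⟨⟨closure {⟨x, subset_closure rfl⟩}, isIrreducible_singleton.closure, isClosed_closure⟩⟩
    rw [Nat.cast_zero] at h
    exact absurd h (not_lt.mpr (Order.krullDim_nonneg (α := IrreducibleCloseds (closure ({x} : Set P)))))
  | succ d ih =>
    intro S hS hd
    classical
    obtain ⟨T, hTf, hTc, hTi, hTS⟩ := NoetherianSpace.exists_finite_set_isClosed_irreducible hS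
    choose g hg using fun t : T => QuasiSober.sober (hTi t.1 t.2) (hTc t.1 t.2)
    haveI := hTf.to_subtype
    let Z : Set P := Set.range g ∩ Yᶜ
    have hZ : Z.Finite := (Set.finite_range g).inter_of_left _
    let J : Ideal (MvPolynomial (Fin (n + 1)) k) := ⨅ y ∈ Y, (y : P).asHomogeneousIdeal.toIdeal
    obtain ⟨e₀, f₀, he₀, hfe₀, hfJ, hf₀⟩ := exists_homogeneous_avoid_mem (CohB1.polyGrading n k) J
      (hZ.toFinset.image fun x => x.asHomogeneousIdeal.toIdeal) fun p hp => by
        obtain ⟨x, hx, rfl⟩ := Finset.mem_image.1 hp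
        refine ⟨x.isPrime, x.asHomogeneousIdeal.isHomogeneous, ?_⟩
        obtain ⟨_, ⟨f, rfl⟩, hxf, hfY⟩ := (ProjectiveSpectrum.isTopologicalBasis_basic_opens
          (CohB1.polyGrading n k)).exists_subset_of_mem_open (hZ.mem_toFinset.1 hx).2 hY.isOpen_compl
        obtain ⟨i, hi⟩ : ∃ i, (DirectSum.decompose (CohB1.polyGrading n k) f i : MvPolynomial (Fin (n + 1)) k) ∉
            x.asHomogeneousIdeal.toIdeal := by
          by_contra hcon
          push Not at hcon
          refine hxf ?_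
          show f ∈ x.asHomogeneousIdeal.toIdeal
          rw [← DirectSum.sum_support_decompose (CohB1.polyGrading n k) f]
          exact Ideal.sum_mem _ fun i _ => hcon i
        obtain ⟨j, hj⟩ := TopologicalSpace.Opens.mem_iSup.mp
          ((Groth.Agent.ProjPoint.iSup_basicOpen_X (R := k) (n := n)).ge (TopologicalSpace.Opens.mem_top x))
        refine ⟨i + 1, _, i.succ_pos, SetLike.GradedMul.mul_mem (SetLike.coe_mem _) (Groth.Agent.ProjPoint.X_mem j),
          ?_, fun h => (x.isPrime.mem_or_mem h).elim hi hj⟩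
        simp only [J, Ideal.mem_iInf]
        intro y hy
        refine Ideal.mul_mem_right _ _ (y.asHomogeneousIdeal.isHomogeneous i ?_)
        by_contra hfy
        exact hfY hfy hy
    have hYD : Y ⊆ ((Proj.basicOpen (CohB1.polyGrading n k) f₀ : (P).Opens) : Set P)ᶜ := fun y hy h => by
      have := hfJ
      simp only [J, Ideal.mem_iInf] at this
      exact h (this y hy)
    obtain ⟨e, h, hh, hhY, hcov⟩ := ih (S \ ((Proj.basicOpen (CohB1.polyGrading n k) f₀ : (P).Opens) : Set P))
      (hS.sdiff (Proj.basicOpen (CohB1.polyGrading n k) f₀).2) fun x hx hxY => by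
        obtain ⟨t, ht, hxt⟩ : ∃ t ∈ T, x ∈ t := by
          have := hx.1
          rw [hTS] at this
          exact this
        have hgx : g ⟨t, ht⟩ ⤳ x := (hg ⟨t, ht⟩).specializes hxt
        have hgY : g ⟨t, ht⟩ ∉ Y := fun h => hxY (hgx.mem_closed hY h)
        have hgS : g ⟨t, ht⟩ ∈ S := by
          rw [hTS]
          exact Set.mem_sUnion_of_mem (hg ⟨t, ht⟩).mem ht
        refine HilbPoly.dim_lt_of_ssubset isClosed_closure
          ((isIrreducible_singleton (x := g ⟨t, ht⟩)).closure) isClosed_closure ?_ (hd _ hgS hgY)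
        have hsub : closure ({x} : Set P) ⊆ closure {g ⟨t, ht⟩} :=
          closure_minimal (Set.singleton_subset_iff.mpr (specializes_iff_mem_closure.mp hgx)) isClosed_closure
        refine hsub.ssubset_of_ne fun he => hx.2 ?_
        have hxg : x ⤳ g ⟨t, ht⟩ := specializes_iff_mem_closure.mpr (he ▸ subset_closure rfl)
        refine hxg.mem_open (Proj.basicOpen (CohB1.polyGrading n k) f₀).2 ?_
        exact hf₀ _ (Finset.mem_image_of_mem _ (hZ.mem_toFinset.2 ⟨⟨_, rfl⟩, hgY⟩))
    refine ⟨Fin.cons e₀ e, Fin.cons f₀ h, Fin.cases ⟨he₀, hfe₀⟩ hh, Fin.cases hYD hhY, ?_⟩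
    rintro x ⟨hxS, hxY⟩
    by_cases hxf : x ∈ Proj.basicOpen (CohB1.polyGrading n k) f₀
    · exact Set.mem_iUnion.mpr ⟨0, hxf⟩
    · obtain ⟨i, hi⟩ := Set.mem_iUnion.mp (hcov ⟨⟨hxS, hxf⟩, hxY⟩)
      exact Set.mem_iUnion.mpr ⟨i.succ, hi⟩

end Groth.Agent.AffineCover
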