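import Groth.Agent.InvPow.Avoidance
import Groth.Agent.InvPow.AmplePullback
import Groth.Agent.HilbPoly.Snapper
import Groth.Agent.PicTwist.Basic
import Groth.Agent.ProjSpaceBC.Basic

/-!
# Affine covers with few members
-/

universe u

open CategoryTheory CategoryTheory.Limits AlgebraicGeometry Opposite TopologicalSpace

set_option autoImplicit false
set_option linter.style.haveILetI false
set_option backward.isDefEq.respectTransparency false
set_option maxHeartbeats 1600000

namespace Groth.Agent.AffineCover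

open InvBasic ProjUniv Groth.Agent.InvPow Groth.Agent.QCohLib Groth.Agent.HilbPoly

variable {X : Scheme.{u}}

/-- `d` loci of sections of powers of an ample module inside `W` cover `S ∩ W` when the closures of its
points have dimension `< d`. -/
theorem exists_loci [NoetherianSpace X] {L : X.Modules} (hL : CohB1.IsAmple L) (W : X.Opens) :
    ∀ (d : ℕ) (S : Set X), IsClosed S →
      (∀ x ∈ S, x ∈ W → topologicalKrullDim (closure ({x} : Set X)) < (d : WithBot ℕ∞)) →
      ∃ (n : Fin d → ℕ) (s : ∀ i, Γ(CohB1.tensorPow L (n i), ⊤)),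
        (∀ i, 0 < n i) ∧ (∀ i, genOpen (isInvertible_tensorPow hL.1 (n i)) (s i) ≤ W) ∧
        (∀ i, IsAffineOpen (genOpen (isInvertible_tensorPow hL.1 (n i)) (s i))) ∧
        S ∩ W ⊆ ⋃ i, (genOpen (isInvertible_tensorPow hL.1 (n i)) (s i) : Set X) := by
  intro d
  induction d with
  | zero =>
    intro S _ hd
    refine ⟨fun i => i.elim0, fun i => i.elim0, fun i => i.elim0, fun i => i.elim0, fun i => i.elim0, ?_⟩
    rintro x ⟨hxS, hxW⟩
    have h := hd x hxS hxW
    haveI : Nonempty (closure ({x} : Set X)) := ⟨⟨x, subset_closure rfl⟩⟩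
    haveI : Nonempty (IrreducibleCloseds (closure ({x} : Set X))) :=
      ⟨⟨closure {⟨x, subset_closure rfl⟩}, isIrreducible_singleton.closure, isClosed_closure⟩⟩
    rw [Nat.cast_zero] at h
    exact absurd h (not_lt.mpr (Order.krullDim_nonneg (α := IrreducibleCloseds (closure ({x} : Set X)))))
  | succ d ih =>
    intro S hS hd
    obtain ⟨T, hTf, hTc, hTi, hTS⟩ := NoetherianSpace.exists_finite_set_isClosed_irreducible hS
    choose g hg using fun t : T => QuasiSober.sober (hTi t.1 t.2) (hTc t.1 t.2)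
    let Z : Set X := Set.range g ∩ (W : Set X)
    haveI := hTf.to_subtype
    obtain ⟨N, hN, σ, hZ, hle, haff⟩ := exists_locus_finite hL Z ((Set.finite_range g).inter_of_left _) W
      Set.inter_subset_right
    obtain ⟨n, s, hn, hsW, hsa, hcov⟩ := ih (S \ (genOpen (isInvertible_tensorPow hL.1 N) σ : Set X))
      (hS.sdiff (genOpen (isInvertible_tensorPow hL.1 N) σ).2) fun x hx hxW => by
        obtain ⟨t, ht, hxt⟩ : ∃ t ∈ T, x ∈ t := by
          have := hx.1
          rw [hTS] at this
          exact this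
        have hgx : g ⟨t, ht⟩ ⤳ x := (hg ⟨t, ht⟩).specializes hxt
        have hgW : g ⟨t, ht⟩ ∈ W := hgx.mem_open W.2 hxW
        have hgS : g ⟨t, ht⟩ ∈ S := by
          rw [hTS]
          exact Set.mem_sUnion_of_mem (hg ⟨t, ht⟩).mem ht
        refine HilbPoly.dim_lt_of_ssubset isClosed_closure
          ((isIrreducible_singleton (x := g ⟨t, ht⟩)).closure) isClosed_closure ?_ (hd _ hgS hgW)
        have hsub : closure ({x} : Set X) ⊆ closure {g ⟨t, ht⟩} :=
          closure_minimal (Set.singleton_subset_iff.mpr (specializes_iff_mem_closure.mp hgx)) isClosed_closure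
        refine hsub.ssubset_of_ne fun he => hx.2 ?_
        have hxg : x ⤳ g ⟨t, ht⟩ := specializes_iff_mem_closure.mpr (he ▸ subset_closure rfl)
        exact hxg.mem_open (genOpen (isInvertible_tensorPow hL.1 N) σ).2 (hZ ⟨⟨_, rfl⟩, hgW⟩)
    refine ⟨Fin.cons N n, Fin.cons σ s, Fin.cases hN hn, Fin.cases hle hsW, Fin.cases haff hsa, ?_⟩
    rintro x ⟨hxS, hxW⟩
    by_cases hxσ : x ∈ genOpen (isInvertible_tensorPow hL.1 N) σ
    · exact Set.mem_iUnion.mpr ⟨0, hxσ⟩
    · obtain ⟨i, hi⟩ := Set.mem_iUnion.mp (hcov ⟨⟨hxS, hxσ⟩, hxW⟩)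
      exact Set.mem_iUnion.mpr ⟨i.succ, hi⟩

/-- A Noetherian scheme of dimension `d` with an ample module has a cover by `d + 1` affines. -/
theorem exists_cover [NoetherianSpace X] {L : X.Modules} (hL : CohB1.IsAmple L) {d : ℕ}
    (hd : topologicalKrullDim X ≤ (d : WithBot ℕ∞)) :
    ∃ U : Fin (d + 1) → X.Opens, (∀ i, IsAffineOpen (U i)) ∧ ⨆ i, U i = ⊤ := by
  obtain ⟨n, s, -, -, ha, hcov⟩ := exists_loci hL ⊤ (d + 1) Set.univ isClosed_univ fun x _ _ =>
    ((topologicalKrullDim_subspace_le X _).trans hd).trans_lt (by exact_mod_cast Nat.lt_succ_self d)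
  exact ⟨_, ha, top_unique fun x _ => TopologicalSpace.Opens.mem_iSup.mpr
    (Set.mem_iUnion.mp (hcov ⟨trivial, trivial⟩))⟩

theorem compactSpace_projSpace (n : ℕ) (R : Type u) [CommRing R] : CompactSpace (CohB1.ProjSpace n R) := by
  refine ⟨?_⟩
  have h : (Set.univ : Set (Proj (CohB1.polyGrading n R))) =
      ⋃ j : Fin (n + 1), (Proj.basicOpen (CohB1.polyGrading n R) (MvPolynomial.X j) : Set (Proj (CohB1.polyGrading n R))) := by
    refine Set.eq_univ_of_forall (fun y => ?_) |>.symm
    obtain ⟨j, hj⟩ := TopologicalSpace.Opens.mem_iSup.mp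
      ((Groth.Agent.ProjPoint.iSup_basicOpen_X (R := R) (n := n)).ge (TopologicalSpace.Opens.mem_top y))
    exact Set.mem_iUnion.mpr ⟨j, hj⟩
  change IsCompact (Set.univ : Set (Proj (CohB1.polyGrading n R)))
  rw [h]
  exact isCompact_iUnion fun j =>
    (Proj.isAffineOpen_basicOpen (CohB1.polyGrading n R) _ (Groth.Agent.ProjPoint.X_mem j) one_pos).isCompact

theorem isAmple_one (n : ℕ) (R : Type u) [CommRing R] : CohB1.IsAmple (Twist.twistProjSpace n R 1) := by
  haveI : CompactSpace (Proj (CohB1.polyGrading n R)) := compactSpace_projSpace n R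
  exact Groth.Agent.ProjTwist.isAmple_twist (CohB1.polyGrading n R) one_pos fun y => by
    obtain ⟨j, hj⟩ := TopologicalSpace.Opens.mem_iSup.mp
      ((Groth.Agent.ProjPoint.iSup_basicOpen_X (R := R) (n := n)).ge (TopologicalSpace.Opens.mem_top y))
    exact ⟨MvPolynomial.X j, Groth.Agent.ProjPoint.X_mem j, hj⟩

theorem noetherianSpace_projSpace (n : ℕ) (R : Type u) [CommRing R] [IsNoetherianRing R] :
    NoetherianSpace (CohB1.ProjSpace n R) := by
  haveI := compactSpace_projSpace n R
  haveI : IsLocallyNoetherian (CohB1.ProjSpace n R) :=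
    haveI := Groth.Agent.InvPow.isProper_toSpec n R
    LocallyOfFiniteType.isLocallyNoetherian (CohB1.ProjSpace.toSpec n R)
  haveI : AlgebraicGeometry.IsNoetherian (CohB1.ProjSpace n R) := ⟨⟩
  infer_instance

/-- The cover of a quasi-projective scheme. -/
theorem exists_cover_of_immersion {n : ℕ} {R : Type u} [CommRing R] [IsNoetherianRing R]
    (j : X ⟶ CohB1.ProjSpace n R) [IsImmersion j] {d : ℕ} (hd : topologicalKrullDim X ≤ (d : WithBot ℕ∞)) :
    ∃ U : Fin (d + 1) → X.Opens, (∀ i, IsAffineOpen (U i)) ∧ ⨆ i, U i = ⊤ := by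
  haveI := noetherianSpace_projSpace n R
  haveI : NoetherianSpace X := j.isEmbedding.isInducing.noetherianSpace
  haveI : QuasiCompact j := (quasiCompact_iff j).mpr fun U _ _ => NoetherianSpace.isCompact _
  haveI : CompactSpace X := inferInstance
  haveI := Groth.Agent.InvPow.isProper_toSpec n R
  haveI : X.IsSeparated := ⟨by
    rw [← terminal.comp_from (j ≫ CohB1.ProjSpace.toSpec n R)]
    infer_instance⟩
  refine exists_cover (InvPow.isAmple_pullback_quasiAffine (isAmple_one n R) j fun y => ?_) hd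
  obtain ⟨U, hU, hyU, -⟩ := exists_isAffineOpen_mem_and_subset (X := CohB1.ProjSpace n R) (x := j y) (U := ⊤) trivial
  haveI : IsAffine (U : Scheme.{u}) := hU
  haveI : CompactSpace ((j ⁻¹ᵁ U : X.Opens) : Scheme.{u}) :=
    isCompact_iff_compactSpace.mp (j.isCompact_preimage hU.isCompact)
  exact ⟨U, hyU, Scheme.IsQuasiAffine.of_isImmersion (j ∣_ U)⟩

end Groth.Agent.AffineCover
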